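import Mathlib
import Cfsg.Prelude.Def_Solvable
import Cfsg.Prelude.Def_Transfer
import Cfsg.Agent.Lib.Cl.Extraspecial
import Cfsg.Agent.Lib.PGroup.Heisenberg
import Cfsg.Agent.Lib.Core.Basic

/-!
# Singular subgroups of a group with an extraspecial `O₂(C(z))`

`QC x` is `O₂(C(x))` viewed in `G`.  When `QC z` is extraspecial, every conjugate `u` of `z` has
`QC u` extraspecial with centre `⟨u⟩`; subgroups of pairwise orthogonal conjugates then behave
well: the joint core does not depend on the generators and `⟨QC u⟩` induces `GL(U)` on `U`.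
-/

set_option autoImplicit false

namespace Cfsg.Agent.Lib.ThreeT

open Subgroup Cfsg Cfsg.Agent.Lib.Cl
open scoped commutatorElement

variable {G : Type*} [Group G]

/-- `O₂(C(x))`, as a subgroup of `G`. -/
def QC (x : G) : Subgroup G :=
  (pCore 2 ↥(centralizer ({x} : Set G))).map (centralizer ({x} : Set G)).subtype

theorem QC_le (x : G) : QC x ≤ centralizer ({x} : Set G) := map_subtype_le _

theorem centralizer_conj (g x : G) :
    centralizer ({g * x * g⁻¹} : Set G) = (centralizer ({x} : Set G)).map (MulAut.conj g).toMonoidHom := by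
  ext y
  simp only [Subgroup.mem_centralizer_iff, Set.mem_singleton_iff, forall_eq, Subgroup.mem_map]
  constructor
  · intro h
    refine ⟨g⁻¹ * y * g, ?_, by simp [MulAut.conj_apply]; group⟩
    have e : g * (x * (g⁻¹ * y * g)) * g⁻¹ = g * x * g⁻¹ * y := by group
    have e2 : g * (g⁻¹ * y * g * x) * g⁻¹ = y * (g * x * g⁻¹) := by group
    have : g * (x * (g⁻¹ * y * g)) * g⁻¹ = g * (g⁻¹ * y * g * x) * g⁻¹ := by rw [e, e2, h]
    exact mul_left_cancel (mul_right_cancel this)
  · rintro ⟨w, hw, rfl⟩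
    simp only [MulEquiv.coe_toMonoidHom, MulAut.conj_apply]
    have e : g * x * g⁻¹ * (g * w * g⁻¹) = g * (x * w) * g⁻¹ := by group
    have e2 : g * w * g⁻¹ * (g * x * g⁻¹) = g * (w * x) * g⁻¹ := by group
    rw [e, e2, hw]

theorem QC_conj (g x : G) : QC (g * x * g⁻¹) = (QC x).map (MulAut.conj g).toMonoidHom := by
  classical
  set C := centralizer ({x} : Set G) with hC
  have hC' : centralizer ({g * x * g⁻¹} : Set G) = C.map (MulAut.conj g).toMonoidHom := centralizer_conj g x
  have key : ∀ H : Subgroup G, H = C.map (MulAut.conj g).toMonoidHom →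
      (pCore 2 ↥H).map H.subtype = ((pCore 2 ↥C).map C.subtype).map (MulAut.conj g).toMonoidHom := by
    rintro H rfl
    let e : ↥C ≃* ↥(C.map (MulAut.conj g).toMonoidHom) := (MulAut.conj g).subgroupMap C
    rw [← Cfsg.Agent.Lib.Core.map_pCore_equiv e, Subgroup.map_map, Subgroup.map_map]
    congr 1
  exact key _ hC'

theorem self_mem_QC {x : G} (hx : orderOf x = 2) : x ∈ QC x := by
  classical
  have hxC : x ∈ centralizer ({x} : Set G) := by
    rw [Subgroup.mem_centralizer_iff]
    rintro y rfl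
    rfl
  let x' : ↥(centralizer ({x} : Set G)) := ⟨x, hxC⟩
  have hcent : ∀ c : ↥(centralizer ({x} : Set G)), c * x' = x' * c := by
    intro c
    apply Subtype.ext
    exact (Subgroup.mem_centralizer_iff.mp c.2 x rfl).symm
  have hN : (zpowers x').Normal := by
    constructor
    rintro n ⟨k, rfl⟩ g
    refine ⟨k, ?_⟩
    have : g * x' ^ k * g⁻¹ = x' ^ k := by
      have h1 : Commute g (x' ^ k) := Commute.zpow_right (hcent g) k
      rw [h1.eq, mul_inv_cancel_right]
    simpa using this.symm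
  have hord : orderOf x' = 2 := by
    rw [← hx]
    exact Subgroup.orderOf_mk x hxC
  have hP : IsPGroup 2 (zpowers x') := by
    apply IsPGroup.of_card (n := 1)
    rw [Nat.card_zpowers, hord, pow_one]
  have h := Cfsg.Agent.Lib.Core.le_pCore hN hP (mem_zpowers x')
  exact ⟨x', h, rfl⟩

section Facts
variable [Finite G]

theorem facts_of_extraspecial {z : G} (hz : orderOf z = 2) (hE : IsExtraspecial 2 ↥(QC z)) (g : G) :
    ExtraFacts (QC (g * z * g⁻¹)) (g * z * g⁻¹) := by
  rw [QC_conj]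
  have hzQ : z ∈ QC z := self_mem_QC hz
  apply extraFacts_of_map (MulAut.conj g).toMonoidHom (MulAut.conj g).injective (QC z) hE
  · rw [← hz]
    exact orderOf_injective (MulAut.conj g).toMonoidHom (MulAut.conj g).injective z
  · exact ⟨z, hzQ, rfl⟩
  · rintro q ⟨w, hw, rfl⟩
    have h := Subgroup.mem_centralizer_iff.mp (QC_le z hw) z rfl
    simp only [MulEquiv.coe_toMonoidHom, MulAut.conj_apply]
    have e : g * w * g⁻¹ * (g * z * g⁻¹) = g * (w * z) * g⁻¹ := by group
    have e2 : g * z * g⁻¹ * (g * w * g⁻¹) = g * (z * w) * g⁻¹ := by group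
    rw [e, e2, h]

/-- Separation in an extraspecial group: `C_Q(X)` detects elements outside `X`. -/
theorem exists_separate {Q X : Subgroup G} {z w : G} (h : ExtraFacts Q z)
    (hzX : zpowers z ≤ X) (hXQ : X ≤ Q) (hw : w ∈ Q) (hwX : w ∉ X) :
    ∃ q ∈ Q, q ∈ centralizer (X : Set G) ∧ q * w * q⁻¹ ≠ w := by
  by_contra hcon
  push Not at hcon
  set X' : Subgroup G := X ⊔ zpowers w with hX'
  have hXX' : X ≤ X' := le_sup_left
  have hX'Q : X' ≤ Q := sup_le hXQ (by rwa [Subgroup.zpowers_le])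
  have h1 := h.relIndex_centralizer hzX hXQ
  have h2 := h.relIndex_centralizer (hzX.trans hXX') hX'Q
  have heq : Q ⊓ centralizer (X' : Set G) = Q ⊓ centralizer (X : Set G) := by
    apply le_antisymm
    · exact inf_le_inf_left _ (Subgroup.centralizer_le hXX')
    · rintro q ⟨hq, hqX⟩
      refine ⟨hq, ?_⟩
      have hqw := hcon q hq hqX
      have hqw' : w * q = q * w := by
        have : q * w = w * q := by
          calc q * w = q * w * q⁻¹ * q := by group
            _ = w * q := by rw [hqw]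
        exact this.symm
      have hle : X' ≤ centralizer ({q} : Set G) := by
        apply sup_le
        · intro y hy
          rw [Subgroup.mem_centralizer_iff]
          rintro _ rfl
          exact (Subgroup.mem_centralizer_iff.mp hqX y hy).symm
        · rw [Subgroup.zpowers_le, Subgroup.mem_centralizer_iff]
          rintro _ rfl
          exact hqw'.symm
      show q ∈ centralizer (X' : Set G)
      rw [Subgroup.mem_centralizer_iff]
      intro y hy
      exact (Subgroup.mem_centralizer_iff.mp (hle hy) q rfl).symm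
  rw [heq, h1] at h2
  have h3 : (zpowers z).relIndex X * X.relIndex X' = (zpowers z).relIndex X' :=
    Subgroup.relIndex_mul_relIndex _ _ _ hzX hXX'
  have hpos : (zpowers z).relIndex X ≠ 0 := Subgroup.index_ne_zero_of_finite
  have h4 : X.relIndex X' = 1 := by
    apply Nat.eq_of_mul_eq_mul_left (Nat.pos_of_ne_zero hpos)
    rw [h3, mul_one, h2]
  have h5 : X' ≤ X := Subgroup.relIndex_eq_one.mp h4
  exact hwX (h5 (Subgroup.mem_sup_right (mem_zpowers w)))

/-- A non-central element of an extraspecial group is moved to its product with the centre. -/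
theorem conj_eq_of_ne {Q : Subgroup G} {z q w : G} (h : ExtraFacts Q z) (hq : q ∈ Q) (hw : w ∈ Q)
    (hne : q * w * q⁻¹ ≠ w) : q * w * q⁻¹ = w * z := by
  have h1 : ⁅q, w⁆ ∈ zpowers z := h.hcom q hq w hw
  rcases h.eq_one_or h1 with h2 | h2
  · exfalso
    apply hne
    rw [commutatorElement_def] at h2
    calc q * w * q⁻¹ = q * w * q⁻¹ * w⁻¹ * w := by group
      _ = w := by rw [h2, one_mul]
  · rw [commutatorElement_def] at h2
    have h3 : q * w * q⁻¹ = z * w := by
      calc q * w * q⁻¹ = q * w * q⁻¹ * w⁻¹ * w := by group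
        _ = z * w := by rw [h2]
    rw [h3]
    exact h.central (mem_zpowers z) hw

theorem exists_conj_eq {Q : Subgroup G} {z w : G} (h : ExtraFacts Q z) (hw : w ∈ Q)
    (hwz : w ∉ zpowers z) : ∃ q ∈ Q, q * w * q⁻¹ = w * z := by
  obtain ⟨q, hq, -, hne⟩ := exists_separate h le_rfl h.zpowers_le hw hwz
  exact ⟨q, hq, conj_eq_of_ne h hq hw hne⟩

end Facts

/-- The setting shared by the statements on singular subgroups. -/
structure SingularSetting (z : G) (U : Subgroup G) : Prop where
  hz : orderOf z = 2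
  hE : IsExtraspecial 2 ↥(QC z)
  hU2 : ∀ u ∈ U, u * u = 1
  hS : ∀ u ∈ U, u ≠ 1 → ∃ g : G, g * z * g⁻¹ = u
  hO : ∀ u ∈ U, ∀ v ∈ U, u ≠ 1 → v ≠ 1 → v ∈ QC u

namespace SingularSetting

variable {z : G} {U : Subgroup G} (S : SingularSetting z U)
include S

variable [Finite G]

theorem facts {u : G} (hu : u ∈ U) (h1 : u ≠ 1) : ExtraFacts (QC u) u := by
  obtain ⟨g, rfl⟩ := S.hS u hu h1
  exact facts_of_extraspecial S.hz S.hE g

theorem le_QC {u : G} (hu : u ∈ U) (h1 : u ≠ 1) : U ≤ QC u := by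
  intro v hv
  by_cases hv1 : v = 1
  · rw [hv1]; exact one_mem _
  · exact S.hO u hu v hv h1 hv1

/-- An element of `QC v` normalizes `U`. -/
theorem conj_mem {v q w : G} (hv : v ∈ U) (hv1 : v ≠ 1) (hq : q ∈ QC v) (hw : w ∈ U) :
    q * w * q⁻¹ ∈ U := by
  have hf := S.facts hv hv1
  have hwQ := S.le_QC hv hv1 hw
  by_cases hne : q * w * q⁻¹ = w
  · rwa [hne]
  · rw [conj_eq_of_ne hf hq hwQ hne]
    exact U.mul_mem hw hv

/-- `Q_u ∩ Q_v ≤ Q_{uv}`. -/
theorem inf_le_mul {u v : G} (hu : u ∈ U) (hv : v ∈ U) (hu1 : u ≠ 1) (hv1 : v ≠ 1) (huv : u * v ≠ 1) :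
    QC u ⊓ QC v ≤ QC (u * v) := by
  have hf := S.facts hv hv1
  have hu2 : u ∉ zpowers v := by
    intro h
    rcases hf.eq_one_or h with h1 | h1
    · exact hu1 h1
    · rw [h1] at huv
      exact huv (S.hU2 v hv)
  obtain ⟨q, hq, hqu⟩ := exists_conj_eq hf (S.le_QC hv hv1 hu) hu2
  rintro w ⟨hw1, hw2⟩
  rw [← hqu, QC_conj]
  refine ⟨q⁻¹ * w * q, ?_, by simp [MulAut.conj_apply]; group⟩
  have h3 : ⁅q⁻¹, w⁆ ∈ zpowers v := hf.hcom _ (inv_mem hq) _ hw2
  have h4 : v ∈ QC u := S.le_QC hu hu1 hv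
  have h5 : zpowers v ≤ QC u := by rwa [Subgroup.zpowers_le]
  have h6 : q⁻¹ * w * q = ⁅q⁻¹, w⁆ * w := by
    rw [commutatorElement_def]
    group
  rw [h6]
  exact (QC u).mul_mem (h5 h3) hw1

omit S in
theorem _root_.Cfsg.Agent.Lib.ThreeT.exists_pow_inv (g : G) : ∃ n : ℕ, g⁻¹ = g ^ n := by
  refine ⟨orderOf g - 1, ?_⟩
  have h : 0 < orderOf g := orderOf_pos g
  rw [inv_eq_iff_mul_eq_one, ← pow_succ']
  rw [Nat.sub_add_cancel h, pow_orderOf_eq_one]

/-- The join of the `QC u`, `u ∈ U#`. -/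
noncomputable def _root_.Cfsg.Agent.Lib.ThreeT.LUof (U : Subgroup G) : Subgroup G :=
  ⨆ u ∈ ((U : Set G) \ {1}), QC u

/-- The intersection of the `QC u`, `u ∈ U#`. -/
noncomputable def _root_.Cfsg.Agent.Lib.ThreeT.QUof (U : Subgroup G) : Subgroup G :=
  ⨅ u ∈ ((U : Set G) \ {1}), QC u

omit S in
theorem _root_.Cfsg.Agent.Lib.ThreeT.QC_le_LUof {u : G} (hu : u ∈ U) (h1 : u ≠ 1) : QC u ≤ LUof U :=
  le_iSup₂_of_le u ⟨hu, h1⟩ le_rfl

omit S in
theorem _root_.Cfsg.Agent.Lib.ThreeT.QUof_le_QC {u : G} (hu : u ∈ U) (h1 : u ≠ 1) : QUof U ≤ QC u :=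
  iInf₂_le_of_le u ⟨hu, h1⟩ le_rfl

omit S in
/-- Induction on the join: a multiplicatively closed predicate holding on every `QC u` holds on the join. -/
theorem _root_.Cfsg.Agent.Lib.ThreeT.LUof_induction {P : G → Prop} (h1 : P 1)
    (hmul : ∀ a b, P a → P b → P (a * b))
    (hQ : ∀ u ∈ U, u ≠ 1 → ∀ q ∈ QC u, P q) : ∀ g ∈ LUof U, P g := by
  have hpow : ∀ (a : G) (n : ℕ), P a → P (a ^ n) := by
    intro a n ha
    induction n with
    | zero => simpa using h1
    | succ k ih => rw [pow_succ]; exact hmul _ _ ih ha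
  let K : Subgroup G :=
    { carrier := {g | P g}
      mul_mem' := fun ha hb => hmul _ _ ha hb
      one_mem' := h1
      inv_mem' := by
        intro a ha
        obtain ⟨n, hn⟩ := exists_pow_inv a
        show P a⁻¹
        rw [hn]
        exact hpow a n ha }
  have hle : LUof U ≤ K := by
    apply iSup₂_le
    rintro u ⟨hu, hu1⟩ q hq
    exact hQ u hu hu1 q hq
  exact fun g hg => hle hg

theorem LU_le_normalizer : LUof U ≤ normalizer (U : Set G) := by
  intro g hg
  have hP : ∀ g ∈ LUof U, ∀ w ∈ U, g * w * g⁻¹ ∈ U := by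
    apply LUof_induction
    · intro w hw
      simpa using hw
    · intro a b ha hb w hw
      have e : a * b * w * (a * b)⁻¹ = a * (b * w * b⁻¹) * a⁻¹ := by group
      rw [e]
      exact ha _ (hb w hw)
    · intro u hu hu1 q hq w hw
      exact S.conj_mem hu hu1 hq hw
  rw [Subgroup.mem_normalizer_iff]
  intro w
  constructor
  · intro hw
    exact hP g hg w hw
  · intro hw
    have h1 := hP g⁻¹ (inv_mem hg) _ hw
    have e : g⁻¹ * (g * w * g⁻¹) * g⁻¹⁻¹ = w := by group
    rwa [e] at h1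

theorem U_le_QU : U ≤ QUof U := by
  intro w hw
  simp only [QUof, Subgroup.mem_iInf]
  rintro u ⟨hu, hu1⟩
  exact S.le_QC hu hu1 hw

/-- Independence of the generating set. -/
theorem QU_eq_of_closure {T : Set G} (hT : closure T = U) (hT1 : (1 : G) ∉ T) :
    QUof U = ⨅ t ∈ T, QC t := by
  apply le_antisymm
  · simp only [le_iInf_iff]
    intro t ht
    have htU : t ∈ U := hT ▸ subset_closure ht
    exact QUof_le_QC htU (fun h => hT1 (h ▸ ht))
  · set W : Subgroup G := ⨅ t ∈ T, QC t with hW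
    simp only [QUof, le_iInf_iff]
    rintro u ⟨hu, hu1⟩
    have key : u = 1 ∨ W ≤ QC u := by
      have hu' : u ∈ closure T := hT ▸ hu
      induction hu' using Subgroup.closure_induction with
      | mem x hx =>
        right
        exact iInf₂_le_of_le x hx le_rfl
      | one => exact Or.inl rfl
      | mul a b ha hb iha ihb =>
        have haU : a ∈ U := hT ▸ ha
        have hbU : b ∈ U := hT ▸ hb
        by_cases ha1 : a = 1
        · rw [ha1, one_mul]
          by_cases hb1 : b = 1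
          · exact Or.inl hb1
          · exact ihb hbU hb1
        by_cases hb1 : b = 1
        · rw [hb1, mul_one]
          exact iha haU ha1
        by_cases hab : a * b = 1
        · exact Or.inl hab
        right
        have h1 : W ≤ QC a := (iha haU ha1).resolve_left ha1
        have h2 : W ≤ QC b := (ihb hbU hb1).resolve_left hb1
        exact (le_inf h1 h2).trans (S.inf_le_mul haU hbU ha1 hb1 hab)
      | inv a ha iha =>
        have haU : a ∈ U := hT ▸ ha
        have e : a⁻¹ = a := inv_eq_of_mul_eq_one_left (S.hU2 a haU)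
        rw [e]
        by_cases ha1 : a = 1
        · exact Or.inl ha1
        · exact iha haU ha1
    exact key.resolve_left hu1

/-- `L_U` acts trivially on `Q_U / U`. -/
theorem comm_mem_of_LU : ∀ g ∈ LUof U, ∀ x ∈ QUof U, g * x * g⁻¹ * x⁻¹ ∈ U := by
  have hN := S.LU_le_normalizer
  have hP : ∀ g ∈ LUof U, g ∈ normalizer (U : Set G) ∧ ∀ x ∈ QUof U, g * x * g⁻¹ * x⁻¹ ∈ U := by
    apply LUof_induction
    · refine ⟨one_mem _, fun x _ => ?_⟩
      simp
    · rintro a b ⟨ha, ha'⟩ ⟨hb, hb'⟩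
      refine ⟨mul_mem ha hb, fun x hx => ?_⟩
      have e : a * b * x * (a * b)⁻¹ * x⁻¹ = a * (b * x * b⁻¹ * x⁻¹) * a⁻¹ * (a * x * a⁻¹ * x⁻¹) := by group
      rw [e]
      exact U.mul_mem ((Subgroup.mem_normalizer_iff.mp ha _).mp (hb' x hx)) (ha' x hx)
    · intro u hu hu1 q hq
      refine ⟨hN (QC_le_LUof hu hu1 hq), fun x hx => ?_⟩
      have hf := S.facts hu hu1
      have hxQ := QUof_le_QC hu hu1 hx
      have h1 : ⁅q, x⁆ ∈ zpowers u := hf.hcom q hq x hxQ
      have h2 : zpowers u ≤ U := by rwa [Subgroup.zpowers_le]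
      exact h2 h1
  exact fun g hg => (hP g hg).2

/-- The centralizer of `U` in `L_U` is transitive on `xU`. -/
theorem exists_conj_mul {x : G} (hx : x ∈ QUof U) (hxU : x ∉ U) {u : G} (hu : u ∈ U) :
    ∃ g ∈ LUof U ⊓ centralizer (U : Set G), g * x * g⁻¹ = x * u := by
  by_cases hu1 : u = 1
  · exact ⟨1, one_mem _, by simp [hu1]⟩
  have hf := S.facts hu hu1
  have hxQ := QUof_le_QC hu hu1 hx
  have h2 : zpowers u ≤ U := by rwa [Subgroup.zpowers_le]
  obtain ⟨q, hq, hqC, hne⟩ := exists_separate hf h2 (S.le_QC hu hu1) hxQ hxU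
  exact ⟨q, ⟨QC_le_LUof hu hu1 hq, hqC⟩, conj_eq_of_ne hf hq hxQ hne⟩

/-- `L_U` induces the whole automorphism group of `U`. -/
theorem exists_LU_conj_eq (φ : ↥U ≃* ↥U) :
    ∃ g ∈ LUof U, ∀ u : ↥U, g * (u : G) * g⁻¹ = ((φ u : ↥U) : G) := by
  classical
  have hN := S.LU_le_normalizer
  -- the subgroup of `G` on which conjugation by `g` agrees with `φ`
  let Eg : G → Subgroup G := fun g =>
    { carrier := {w | ∃ hw : w ∈ U, g * w * g⁻¹ = ((φ ⟨w, hw⟩ : ↥U) : G)}
      mul_mem' := by
        rintro a b ⟨ha, ha'⟩ ⟨hb, hb'⟩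
        refine ⟨U.mul_mem ha hb, ?_⟩
        have e : g * (a * b) * g⁻¹ = (g * a * g⁻¹) * (g * b * g⁻¹) := by group
        have e2 : (⟨a * b, U.mul_mem ha hb⟩ : ↥U) = ⟨a, ha⟩ * ⟨b, hb⟩ := rfl
        rw [e, ha', hb', e2, map_mul]
        rfl
      one_mem' := by
        refine ⟨U.one_mem, ?_⟩
        have e2 : (⟨1, U.one_mem⟩ : ↥U) = 1 := rfl
        rw [e2, map_one]
        simp
      inv_mem' := by
        rintro a ⟨ha, ha'⟩
        refine ⟨U.inv_mem ha, ?_⟩
        have e2 : (⟨a⁻¹, U.inv_mem ha⟩ : ↥U) = (⟨a, ha⟩ : ↥U)⁻¹ := rfl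
        rw [e2, map_inv]
        have e : g * a⁻¹ * g⁻¹ = (g * a * g⁻¹)⁻¹ := by group
        rw [e, ha']
        rfl }
  have hEU : ∀ g, Eg g ≤ U := fun g w hw => hw.1
  -- choose `g` with `Eg g` of largest order
  obtain ⟨⟨g, hg⟩, hmax⟩ := Finite.exists_max (fun g : ↥(LUof U) => Nat.card (Eg (g : G)))
  refine ⟨g, hg, ?_⟩
  by_contra hcon
  push Not at hcon
  obtain ⟨⟨w, hw⟩, hwne⟩ := hcon
  have hwE : w ∉ Eg g := fun h => hwne (by
    obtain ⟨_, h2⟩ := h
    exact h2)
  -- `w₁ = g⁻¹ φ(w) g`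
  set w₁ : G := g⁻¹ * ((φ ⟨w, hw⟩ : ↥U) : G) * g with hw₁
  have hw₁U : w₁ ∈ U := by
    have := (Subgroup.mem_normalizer_iff.mp (hN (inv_mem hg)) _).mp (φ ⟨w, hw⟩).2
    rwa [inv_inv] at this
  have hgw₁ : g * w₁ * g⁻¹ = ((φ ⟨w, hw⟩ : ↥U) : G) := by
    rw [hw₁]; group
  set v : G := w * w₁ with hv
  have hvU : v ∈ U := U.mul_mem hw hw₁U
  have hww : w * w = 1 := S.hU2 w hw
  have hwinv : w⁻¹ = w := inv_eq_of_mul_eq_one_left hww
  have hv1 : v ≠ 1 := by
    intro h
    have : w₁ = w := by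
      have h1 : w₁ = w⁻¹ * v := by rw [hv]; group
      rw [h1, h, mul_one, hwinv]
    exact hwne (by rw [← hgw₁, this])
  have hf := S.facts hvU hv1
  set X : Subgroup G := Eg g ⊔ zpowers v with hX
  have hXU : X ≤ U := sup_le (hEU g) (by rwa [Subgroup.zpowers_le])
  have hcomm : ∀ a ∈ U, ∀ b ∈ U, a * b = b * a := by
    intro a ha b hb
    have h1 : (a * b)⁻¹ = a * b := inv_eq_of_mul_eq_one_left (S.hU2 _ (U.mul_mem ha hb))
    have ha' : a⁻¹ = a := inv_eq_of_mul_eq_one_left (S.hU2 a ha)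
    have hb' : b⁻¹ = b := inv_eq_of_mul_eq_one_left (S.hU2 b hb)
    rw [← h1, mul_inv_rev, hb', ha']
  have hvv : v * v = 1 := S.hU2 v hvU
  have hwX : w ∉ X := by
    intro hwX
    let K' : Subgroup G :=
      { carrier := {y | y ∈ U ∧ (y ∈ Eg g ∨ y * v ∈ Eg g)}
        mul_mem' := by
          rintro a b ⟨ha, ha'⟩ ⟨hb, hb'⟩
          refine ⟨U.mul_mem ha hb, ?_⟩
          rcases ha' with ha' | ha' <;> rcases hb' with hb' | hb'
          · exact Or.inl (mul_mem ha' hb')
          · right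
            rw [mul_assoc]
            exact mul_mem ha' hb'
          · right
            have e : a * b * v = a * v * b := by
              rw [mul_assoc, mul_assoc, hcomm b hb v hvU]
            rw [e]
            exact mul_mem ha' hb'
          · left
            have e : a * b = a * v * (b * v) := by
              have e1 : a * v * (b * v) = a * (v * b) * v := by group
              rw [e1, hcomm v hvU b hb]
              have e2 : a * (b * v) * v = a * b * (v * v) := by group
              rw [e2, hvv, mul_one]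
            rw [e]
            exact mul_mem ha' hb'
        one_mem' := ⟨U.one_mem, Or.inl (one_mem _)⟩
        inv_mem' := by
          rintro a ⟨ha, ha'⟩
          have ha2 : a⁻¹ = a := inv_eq_of_mul_eq_one_left (S.hU2 a ha)
          rw [ha2]
          exact ⟨ha, ha'⟩ }
    have hXK : X ≤ K' := by
      apply sup_le
      · intro e he
        exact ⟨hEU g he, Or.inl he⟩
      · rw [Subgroup.zpowers_le]
        refine ⟨hvU, Or.inr ?_⟩
        rw [hvv]
        exact one_mem _
    rcases (hXK hwX).2 with h | h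
    · exact hwE h
    · have e : w * v = w₁ := by
        rw [hv, ← mul_assoc, hww, one_mul]
      rw [e] at h
      obtain ⟨h1, h2⟩ := h
      rw [hgw₁] at h2
      have h3 : (⟨w₁, h1⟩ : ↥U) = ⟨w, hw⟩ := φ.injective (Subtype.ext h2.symm)
      have h4 : w₁ = w := congrArg Subtype.val h3
      apply hv1
      rw [hv, h4, hww]
  obtain ⟨q, hq, hqC, hne⟩ := exists_separate hf (by exact le_sup_right) (hXU.trans (S.le_QC hvU hv1))
    (S.le_QC hvU hv1 hw) hwX
  have hqw := conj_eq_of_ne hf hq (S.le_QC hvU hv1 hw) hne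
  have hqw₁ : q * w * q⁻¹ = w₁ := by
    rw [hqw, hv, ← mul_assoc, hww, one_mul]
  -- the new element
  have hgq : g * q ∈ LUof U := mul_mem hg (QC_le_LUof hvU hv1 hq)
  have hlt : Nat.card (Eg g) < Nat.card (Eg (g * q)) := by
    have hle : Eg g ⊔ zpowers w ≤ Eg (g * q) := by
      apply sup_le
      · rintro e ⟨he, he'⟩
        refine ⟨he, ?_⟩
        have hqe : q * e * q⁻¹ = e := by
          have h1 : e ∈ X := Subgroup.mem_sup_left ⟨he, he'⟩
          have h2 := Subgroup.mem_centralizer_iff.mp hqC e h1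
          rw [← h2]
          group
        have e1 : g * q * e * (g * q)⁻¹ = g * (q * e * q⁻¹) * g⁻¹ := by group
        rw [e1, hqe, he']
      · rw [Subgroup.zpowers_le]
        refine ⟨hw, ?_⟩
        have e1 : g * q * w * (g * q)⁻¹ = g * (q * w * q⁻¹) * g⁻¹ := by group
        rw [e1, hqw₁, hgw₁]
    have hne' : Eg g ≠ Eg (g * q) := by
      intro h
      have : w ∈ Eg (g * q) := hle (Subgroup.mem_sup_right (mem_zpowers w))
      rw [← h] at this
      exact hwE this
    by_contra hnot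
    exact hne' (Subgroup.eq_of_le_of_card_ge (le_sup_left.trans hle) (not_lt.mp hnot))
  exact absurd (hmax ⟨g * q, hgq⟩) (not_le.mpr hlt)

end SingularSetting

end Cfsg.Agent.Lib.ThreeT
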