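import Mathlib

set_option autoImplicit false

/-!
Elementary group lemmas used across the 3-transposition and large-extraspecial files.
-/

namespace Cfsg.Agent.Lib.ThreeT

section
variable {G : Type*} [Group G]

theorem orderOf_conj' (g x : G) : orderOf (g * x * g⁻¹) = orderOf x := by
  have := (MulAut.conj g).orderOf_eq x
  rwa [MulAut.conj_apply] at this

theorem orderOf_eq_of_isConj {a b : G} (h : IsConj a b) : orderOf a = orderOf b := by
  obtain ⟨c, rfl⟩ := isConj_iff.1 h
  exact (orderOf_conj' c a).symm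

theorem conj_mem_conjugatesOf {d b : G} (hb : b ∈ conjugatesOf d) (g : G) :
    g * b * g⁻¹ ∈ conjugatesOf d := by
  have hb' : IsConj d b := hb
  exact hb'.trans (isConj_iff.2 ⟨g, rfl⟩)

theorem mul_self_of_orderOf {x : G} (hx : orderOf x = 2) : x * x = 1 := by
  have := pow_orderOf_eq_one x
  rwa [hx, pow_two] at this

/-- Generators commuting pairwise: the closure is commutative (elementwise form). -/
theorem closure_comm {s : Set G} (h : ∀ a ∈ s, ∀ b ∈ s, a * b = b * a) :
    ∀ x ∈ Subgroup.closure s, ∀ y ∈ Subgroup.closure s, x * y = y * x := by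
  have h1 : ∀ a ∈ s, Subgroup.closure s ≤ Subgroup.centralizer ({a} : Set G) := by
    intro a ha
    rw [Subgroup.closure_le]
    intro b hb
    rw [SetLike.mem_coe, Subgroup.mem_centralizer_iff]
    intro c hc
    rw [Set.mem_singleton_iff] at hc
    subst hc
    exact h _ ha _ hb
  intro x hx y hy
  have h2 : Subgroup.closure s ≤ Subgroup.centralizer ({y} : Set G) := by
    rw [Subgroup.closure_le]
    intro a ha
    rw [SetLike.mem_coe, Subgroup.mem_centralizer_iff]
    intro c hc
    rw [Set.mem_singleton_iff] at hc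
    subst hc
    have := h1 a ha hy
    rw [Subgroup.mem_centralizer_iff] at this
    exact (this a rfl).symm
  have := h2 hx
  rw [Subgroup.mem_centralizer_iff] at this
  exact (this y rfl).symm

/-- An element in both an odd-order subgroup and a 2-subgroup is trivial. -/
theorem eq_one_of_mem_odd_two [Finite G] {K P : Subgroup G} (hK : Odd (Nat.card K))
    (hP : IsPGroup 2 P) {x : G} (hxK : x ∈ K) (hxP : x ∈ P) : x = 1 := by
  obtain ⟨k, hk⟩ := hP ⟨x, hxP⟩
  have hk' : x ^ (2 ^ k) = 1 := by simpa [Subtype.ext_iff] using hk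
  have h1 : x ^ Nat.card K = 1 := by
    have h0 : (⟨x, hxK⟩ : K) ^ Nat.card K = 1 := pow_card_eq_one'
    rwa [Subtype.ext_iff, SubgroupClass.coe_pow, OneMemClass.coe_one] at h0
  have hc : Nat.gcd (Nat.card K) (2 ^ k) = 1 := by
    apply Nat.Coprime.pow_right
    exact (Nat.coprime_two_right).2 hK
  have := (pow_gcd_eq_one (a := x)).2 ⟨h1, hk'⟩
  rwa [hc, pow_one] at this

/-- If `c y c⁻¹ = y⁻¹` and `c` has odd order then `y ^ 2 = 1`. -/
theorem sq_eq_one_of_inverted_by_odd {c y : G} (hc : Odd (orderOf c)) (h : c * y * c⁻¹ = y⁻¹)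
    (hfin : 0 < orderOf c) : y ^ 2 = 1 := by
  obtain ⟨s, hs⟩ := hc
  have h2 : c ^ 2 * y = y * c ^ 2 := by
    have h3 : c * y = y⁻¹ * c := by rw [← h]; group
    have h4 : c * y⁻¹ = y * c := by
      have h5 : c * y⁻¹ * c⁻¹ = y := by
        have := congrArg (·⁻¹) h
        simpa [mul_assoc] using this
      calc c * y⁻¹ = c * y⁻¹ * c⁻¹ * c := by group
        _ = y * c := by rw [h5]
    rw [pow_two, mul_assoc, h3, ← mul_assoc, h4, mul_assoc]
  have h3 : ∀ n : ℕ, (c ^ 2) ^ n * y = y * (c ^ 2) ^ n := by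
    intro n
    induction n with
    | zero => simp
    | succ n ih => rw [pow_succ, mul_assoc, h2, ← mul_assoc, ih, mul_assoc]
  have h4 : c ^ (orderOf c) = 1 := pow_orderOf_eq_one c
  rw [hs] at h4
  have h5 : c = ((c ^ 2) ^ s)⁻¹ := by
    have : (c ^ 2) ^ s * c = 1 := by rw [← pow_mul, ← pow_succ]; exact h4
    exact eq_inv_of_mul_eq_one_right this
  have h6 : c * y = y * c := by
    have h7 := h3 s
    have h8 : ((c ^ 2) ^ s)⁻¹ * y = y * ((c ^ 2) ^ s)⁻¹ := by
      rw [inv_mul_eq_iff_eq_mul, ← mul_assoc, h7, mul_assoc, mul_inv_cancel, mul_one]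
    rw [← h5] at h8
    exact h8
  have h7 : y = y⁻¹ := by
    rw [← h, h6]; group
  rw [pow_two]
  exact mul_eq_one_iff_eq_inv.2 h7

end

end Cfsg.Agent.Lib.ThreeT

namespace Cfsg.Agent.Lib.ThreeT

section
variable {G : Type*} [Group G]

/-- `a` inverting `u` inverts powers. -/
theorem inv_pow_of_inv {a u : G} (ha : a * a = 1) (hau : a * u * a = u⁻¹) (k : ℕ) :
    a * u ^ k * a = (u ^ k)⁻¹ := by
  induction k with
  | zero => simp [ha]
  | succ k ih =>
    have : a * u ^ (k + 1) * a = (a * u ^ k * a) * (a * u * a) := by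
      rw [pow_succ]
      calc a * (u ^ k * u) * a = a * u ^ k * 1 * u * a := by group
        _ = a * u ^ k * (a * a) * u * a := by rw [ha]
        _ = _ := by group
    rw [this, ih, hau, pow_succ]
    group

/-- Involutions whose product has odd order are conjugate. -/
theorem isConj_of_odd {a b : G} (ha : a * a = 1) (hb : b * b = 1)
    (hodd : Odd (orderOf (a * b))) : IsConj a b := by
  obtain ⟨k, hk⟩ := hodd
  have hai : a⁻¹ = a := inv_eq_of_mul_eq_one_left ha
  have hbi : b⁻¹ = b := inv_eq_of_mul_eq_one_left hb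
  obtain ⟨u, hu⟩ : ∃ u, u = a * b := ⟨_, rfl⟩
  rw [← hu] at hk
  have hau : a * u * a = u⁻¹ := by
    rw [hu, mul_inv_rev, hai, hbi]
    calc a * (a * b) * a = (a * a) * b * a := by group
      _ = b * a := by rw [ha, one_mul]
  have hb' : b = a * u := by rw [hu, ← mul_assoc, ha, one_mul]
  have h1 : u ^ (2 * k + 1) = 1 := by rw [← hk]; exact pow_orderOf_eq_one u
  rw [isConj_iff]
  refine ⟨u ^ k, ?_⟩
  have h3 : u ^ k * a = a * (u ^ k)⁻¹ := by
    have := inv_pow_of_inv ha hau k
    calc u ^ k * a = a * (a * u ^ k * a) := by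
          rw [← mul_assoc, ← mul_assoc, ha, one_mul]
      _ = _ := by rw [this]
  rw [h3]
  have h4 : (u ^ k)⁻¹ * (u ^ k)⁻¹ = u := by
    have h5 : u ^ k * u ^ k * u = 1 := by
      rw [← h1, ← pow_add, ← pow_succ, two_mul]
    have h6 := eq_inv_of_mul_eq_one_right h5
    exact (mul_inv_rev (u ^ k) (u ^ k)).symm.trans h6.symm
  rw [mul_assoc, h4, ← hb']

end

end Cfsg.Agent.Lib.ThreeT
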