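import Cfsg.Agent.Lib.ThreeT.H1Cert

/-!
# Data for the vanishing of crossed homomorphisms: chains of elements with `τ² + τ + 1 = 0`
-/

set_option autoImplicit false

namespace Cfsg.Agent.Lib.ThreeT.H1

/-- Quadratic form as a bit mask. -/
def qmP8 : ℕ := 54518767989058627813427907899653103368520125748912612456443496272599911528584

/-- The first element. -/
def p0P8 : List (ℕ × ℕ) := [(135, 12), (141, 108), (176, 157), (210, 223)]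

/-- The other elements. -/
def restP8 : List (List (ℕ × ℕ) × List (List ℕ)) :=
  [([(191, 216), (46, 239), (253, 71), (171, 229)], [[0, 0], [0, 0], [0], [0]]),
   ([(120, 185), (163, 94), (252, 87), (233, 49)], [[0, 1, 1], [0, 1], [0, 0, 1, 1], [0, 0, 1]])]

/-- The paths. -/
def tabP8 : List (List ℕ) :=
  [[], [], [], [], [], [], [], [0, 1, 2], [], [], [], [2, 1, 1, 2, 0], [0, 1, 2, 1, 2], [2, 2], [2], [], [], [], [], [2, 1, 2, 2, 1], [], [], [], [2, 0, 1, 1], [], [], [], [0, 1, 2, 2, 0, 2], [0, 1, 2, 2, 0, 1], [2, 1, 2, 0, 2], [0, 1, 2, 0, 1, 1], [], [], [], [], [0, 0, 2, 0, 2, 1], [], [], [], [2, 1, 2, 0, 1], [], [], [], [0, 0, 2, 1], [0, 1, 1, 2, 2, 0], [0, 1, 1], [0, 2, 0], [], [0, 1, 2, 0, 2, 1], [0, 0, 2, 2, 1, 2], [2, 1, 1, 2], [], [0, 1, 2, 1, 2, 1], [0, 0, 2, 0, 2, 2], [0, 1, 2, 0, 0, 2], [], [1, 1, 2, 1, 2], [2,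 1, 1, 2, 0, 0], [0, 1, 1, 2, 1], [], [], [], [], [2, 1, 2], [], [], [], [0, 1, 1, 2, 0, 1], [], [], [], [0, 0, 2, 1, 2], [], [], [], [0, 1, 1, 2, 2, 1], [0, 0, 1, 1, 2, 1, 2], [0, 2, 1, 2, 1], [2, 2, 1, 2], [], [], [], [], [2, 0, 0, 2], [], [], [], [0, 1, 2, 0, 0, 1], [], [], [], [0, 1, 2, 2], [0, 1], [1, 1, 2, 0, 0, 2], [2, 0, 2], [], [], [], [], [0, 2, 1, 2, 0], [], [], [], [1, 1, 2, 0, 2, 0], [], [], [], [1, 1, 2, 1, 2, 0], [0, 0, 2, 0, 0], [0, 1, 2, 0, 2], [0, 0, 1, 2, 0, 1], [], [0, 1, 2, 2, 0], [0], [0, 0], [], [2, 2, 1], [2, 2, 0, 2, 0, 0], [0, 0, 1, 2], [], [0, 2, 1, 2], [2, 2, 1, 1], [0, 0, 2, 2, 1, 1], [], [], [], [], [1, 1, 2], [], [], [], [2, 1, 1, 2, 1], [], [], [], [2, 0, 0, 2, 1], [], [], [], [0, 1, 1, 2, 0, 2], [0, 0, 1, 1, 2, 1], [0, 0, 2, 0], [0, 0, 2, 2, 0], [], [], [], [], [0, 0, 2, 2], [], [], [], [0, 0,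 1, 1, 2], [], [], [], [0, 0, 2, 0, 2, 1, 1], [0, 1, 1, 2, 0], [1, 1], [1], [], [], [], [], [2, 0], [], [], [], [0, 0, 1, 2, 1], [], [], [], [2, 2, 1, 2, 0], [0, 1, 2, 0, 1], [2, 0, 0], [1, 1, 2, 0, 0], [], [0, 0, 1, 1], [2, 2, 0, 2], [0, 1, 2, 0], [], [2, 0, 1], [0, 1, 2, 0, 0], [1, 1, 2, 1], [], [0, 0, 2, 0, 2], [0, 2, 1, 2, 2], [0, 0, 2, 1, 2, 0], [], [], [], [], [1, 1, 2, 0, 2], [0, 0, 1, 2, 0], [0, 2, 1], [0, 0, 1], [], [2, 2, 0, 2, 0], [0, 1, 1, 2, 2], [2, 1, 2, 2, 1, 1], [], [0, 2, 0, 2, 2], [1, 1, 2, 1, 1], [0, 0, 2, 1, 1], [], [], [], [], [2, 1, 1, 2, 0, 1], [0, 2, 0, 2, 1], [1, 1, 2, 0], [2, 2, 0], [], [0, 0, 2, 1, 1, 2], [2, 1, 2, 2], [0, 1, 2, 2, 1], [], [1, 1, 2, 0, 2, 1], [2, 1, 2, 0], [0, 2, 1, 2, 0, 1], [], [], [], [], [2, 2, 0, 0], [2, 0, 0, 2, 1, 2], [0, 0, 2], [1, 1, 2, 2], [], [2, 1, 1], [2, 2, 1, 2, 0, 0],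 [0, 2, 0, 2], [], [0, 1, 1, 2], [0, 0, 2, 2, 1], [2, 1], [], [], [], [], [0, 2], [], [], [], [2, 0, 2, 1], [], [], [], [2, 1, 2, 1], [], [], [], [0, 1, 2, 1], [0, 1, 2, 1, 1], [2, 0, 2, 2], [2, 0, 0, 2, 2], []]

theorem okP8 : fullOK 8 qmP8 p0P8 restP8 3 tabP8 = true := by
  decide +kernel

/-- Quadratic form as a bit mask. -/
def qmM6 : ℕ := 9761419664792451208

/-- The first element. -/
def p0M6 : List (ℕ × ℕ) := [(3, 26), (52, 16), (31, 7)]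

/-- The other elements. -/
def restM6 : List (List (ℕ × ℕ) × List (List ℕ)) :=
  [([(40, 13), (32, 22), (42, 33)], [[0], [0, 0], [0, 0]]),
   ([(14, 26), (18, 7), (16, 57)], [[1, 1], [1, 1], [1]]),
   ([(16, 56), (21, 3), (20, 11)], [[0, 0, 1, 1], [0, 0, 2, 0], [0, 0, 2, 2, 0]])]

/-- The paths. -/
def tabM6 : List (List ℕ) :=
  [[], [], [], [], [], [], [], [2, 3], [], [], [], [0, 2, 3], [3, 1, 3], [0, 0, 1, 3], [0, 1], [], [1, 3, 1], [1, 3, 0], [2, 0, 0], [], [0, 2], [3, 3], [3], [], [1, 1, 2], [0, 0], [0], [], [], [], [], [0, 3, 1], [3, 0], [2, 2], [2], [], [0, 1, 3], [2, 3, 3], [0, 2, 0], [], [0, 1, 3, 2], [1, 3], [2, 2, 0], [], [], [], [], [0, 3], [2, 0], [1], [1, 1], [], [0, 1, 3, 0], [0, 3, 3], [3, 1], [], [1, 3, 0, 0], [0, 0, 3], [1, 2], [], [], [], [], [0, 0, 1]]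

theorem okM6 : fullOK 6 qmM6 p0M6 restM6 3 tabM6 = true := by
  decide +kernel

end Cfsg.Agent.Lib.ThreeT.H1
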